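import Groth.Agent.L27.FEtProper.General
import Groth.Agent.L27.H0Proper
import Groth.Agent.L27.CompTransfer.Descend
import Groth.Agent.L27.FLC.Torsor
import Groth.Agent.L28.LocConst.PullInst
import Groth.Agent.S0621

/-! # First cohomology of a proper scheme over a henselian pair -/

set_option autoImplicit false
set_option linter.style.haveILetI false
set_option linter.unusedSectionVars false
set_option backward.isDefEq.respectTransparency false
set_option backward.isDefEq.respectTransparency.types false

universe u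

open CategoryTheory CategoryTheory.Limits AlgebraicGeometry Opposite CategoryTheory.Abelian

noncomputable section

namespace Groth.L27.ProperH1

open Groth.L27.LimCoh Groth.L27.CompTransfer

variable {Z X X' Z' : Scheme.{u}}

/-- A class killed by a cover dies in the direct image of the cover. -/
theorem map_unit_eq_zero (p : X' ⟶ X) [QuasiCompact p] [QuasiSeparated p]
    [PreservesFiniteLimits (EtCoh.pull p)] (F : EtCoh.Ab X) (η : EtCoh.H X F 1)
    (h : EtCore.Hpull p F 1 η = 0) :
    (EtCoh.HF X 1).map ((EtCoh.pullPushAdj p).unit.app F) η = 0 := by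
  obtain ⟨-, hinj⟩ := edge p 0 ((EtCoh.pull p).obj F) fun q h1 h2 => absurd (h1.trans h2) (by omega)
  refine hinj (((congrArg _ (EtSite.HF_map_apply _ 1 η)).trans (EtSite.Hpull_apply p F 1 η).symm).trans
    (h.trans (map_zero _).symm))

/-- After base change, a class killed by the cover dies in the pulled back direct image. -/
theorem map_pull_unit_eq_zero (i : Z ⟶ X) (p : X' ⟶ X) [IsFinite p] (i' : Z' ⟶ X') (p' : Z' ⟶ Z)
    (sq : IsPullback i' p' p i) [QuasiCompact p'] [QuasiSeparated p'] [PreservesFiniteLimits (EtCoh.pull i)]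
    [PreservesFiniteLimits (EtCoh.pull p')] (F : EtCoh.Ab X) (ξ : EtCoh.H Z ((EtCoh.pull i).obj F) 1)
    (h : EtCore.Hpull p' _ 1 ξ = 0) :
    (EtCoh.HF Z 1).map ((EtCoh.pull i).map ((EtCoh.pullPushAdj p).unit.app F)) ξ = 0 := by
  let G := (EtCoh.pull p).obj F
  obtain ⟨-, hinj⟩ := edge p' 0 ((EtCoh.pull i').obj G) fun q h1 h2 => absurd (h1.trans h2) (by omega)
  haveI := Groth.Agent.S0621.result p i p' i' sq G
  apply (ConcreteCategory.bijective_of_isIso ((EtCoh.HF Z 1).map (EtCoh.baseChange0 p i p' i' sq.w G))).1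
  rw [map_zero]
  apply hinj
  rw [map_zero]
  refine (HofPush_map_eq p' _ _ 1 ξ).trans ?_
  rw [h, map_zero]

variable {A : Type u} [CommRing A] (I : Ideal A) [HenselianRing A I]
  {X : Scheme.{u}} (f : X ⟶ Spec (CommRingCat.of A)) [IsProper f]

open Groth.L27.HenselProper (ι)

theorem bijective_zero [PreservesFiniteLimits (EtCoh.pull (pullback.fst f (ι I)))] (Q : EtCoh.Ab X) :
    Function.Bijective (EtCore.Hpull (pullback.fst f (ι I)) Q 0) :=
  (bijective_Hpull_zero_iff _ Q).2 (H0Proper.bijective_unit I f Q)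

/-- Surjective covers: a finite étale cover of `X` covering the special fibre is surjective. -/
theorem surjective_of_special {E : Scheme.{u}} (q : E ⟶ X) [IsFinite q] [AlgebraicGeometry.Etale q]
    [Surjective (pullback.snd q (pullback.fst f (ι I)))] : Surjective q := by
  haveI : IsProper (𝟙 X ≫ f) := by rw [Category.id_comp]; infer_instance
  have hd : Disjoint (Set.range (pullback.fst (𝟙 X) (pullback.fst f (ι I)))) (Set.range q)ᶜ := by
    rw [Set.disjoint_compl_right_iff_subset]
    rintro _ ⟨t, rfl⟩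
    obtain ⟨e, he⟩ := (pullback.snd q (pullback.fst f (ι I))).surjective (pullback.snd (𝟙 X) (pullback.fst f (ι I)) t)
    refine ⟨pullback.fst q (pullback.fst f (ι I)) e, ?_⟩
    rw [← Scheme.Hom.comp_apply, pullback.condition, Scheme.Hom.comp_apply, he, ← Scheme.Hom.comp_apply,
      ← pullback.condition, Category.comp_id]
  have hempty := FEtProper.eq_empty I f (𝟙 X) q.isOpenMap.isOpen_range.isClosed_compl hd
  exact ⟨fun x => by
    by_contra hx
    exact (Set.eq_empty_iff_forall_notMem.mp hempty) x hx⟩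

theorem shortExact_unit {E : Scheme.{u}} (q : E ⟶ X) [Surjective q] (F : EtCoh.Ab X) :
    (ShortComplex.mk ((EtCoh.pullPushAdj q).unit.app F) (cokernel.π _) (cokernel.condition _)).ShortExact :=
  haveI := HenselClosed.mono_unit q F
  { exact := ShortComplex.exact_of_g_is_cokernel _ (cokernelIsCokernel _) }

/-- `H¹` of a finite locally constant sheaf is that of the special fibre. -/
theorem bijective_one [PreservesFiniteLimits (EtCoh.pull (pullback.fst f (ι I)))] (F : EtCoh.Ab X)
    (hF : EtCoh.IsFiniteLocallyConstant F) (n : ℕ) [NeZero n] (hn : EtCoh.KilledBy n F)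
    (hn' : EtCoh.KilledBy n ((EtCoh.pull (pullback.fst f (ι I))).obj F)) :
    Function.Bijective (EtCore.Hpull (pullback.fst f (ι I)) F 1) := by
  let i := pullback.fst f (ι I)
  refine ⟨(injective_iff_map_eq_zero _).2 fun η hη => ?_, fun ξ => ?_⟩
  · obtain ⟨E, q, hq1, hq2, hq3, hq⟩ := FLC.exists_cover_killing F hF n hn η
    haveI := EtSite.preservesFiniteLimits_pull q
    have hE := shortExact_unit q F
    obtain ⟨y, rfl⟩ := exists_δH hE 0 η (map_unit_eq_zero q F η hq)
    replace hη := (Hpull_δH i hE 0 y).symm.trans hη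
    obtain ⟨z, hz⟩ := exists_map_of_δH_eq_zero (hE.map_of_exact (EtCoh.pull i)) 0 _ hη
    obtain ⟨b, rfl⟩ := (bijective_zero I f _).2 z
    rw [show y = (EtCoh.HF X 0).map (cokernel.π _) b from (bijective_zero I f _).1
      (hz.symm.trans (Hpull_map i (cokernel.π _) 0 b).symm)]
    exact δH_map_g hE 0 b
  · obtain ⟨Z₁, g, hg1, hg2, hg3, hg⟩ := FLC.exists_cover_killing _
      (L28.LocConst.isFiniteLocallyConstant_pull i F hF) n hn' ξ
    haveI := FEtProper.isEquivalence I f
    let U := (FEt.restrict (FEtProper.i I f)).objPreimage (MorphismProperty.Over.mk ⊤ g ⟨hg1, hg2⟩)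
    let χ := (FEt.restrict (FEtProper.i I f)).objObjPreimageIso (MorphismProperty.Over.mk ⊤ g ⟨hg1, hg2⟩)
    let q : U.left ⟶ X := U.hom
    haveI : IsFinite q := U.prop.1
    haveI : AlgebraicGeometry.Etale q := U.prop.2
    let q₀ := pullback.snd q i
    let e : pullback q i ⟶ Z₁ := χ.hom.left
    have he : e ≫ g = q₀ := MorphismProperty.Over.w χ.hom
    haveI : IsIso e := inferInstanceAs (IsIso ((MorphismProperty.Over.forget _ ⊤ _ ⋙
      CategoryTheory.Over.forget _).map χ.hom))
    haveI : Surjective q₀ := by rw [← he]; infer_instance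
    haveI : Surjective q := surjective_of_special I f q
    haveI := EtSite.preservesFiniteLimits_pull q
    haveI := EtSite.preservesFiniteLimits_pull g
    haveI := EtSite.preservesFiniteLimits_pull e
    haveI := EtSite.preservesFiniteLimits_pull q₀
    have hE := shortExact_unit q F
    have hk : EtCore.Hpull q₀ _ 1 ξ = 0 := by
      have h1 := Hpull_comp e g he 1 ((EtCoh.pull i).obj F) ξ
      rw [hg, map_zero] at h1
      let γ : (EtCoh.pull q₀).obj ((EtCoh.pull i).obj F) ⟶ (EtCoh.pull e).obj ((EtCoh.pull g).obj ((EtCoh.pull i).obj F)) :=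
        gamma e g he _
      haveI : IsIso γ := by
        rw [show γ = _ from (inv_eq_gamma e g q₀ he _).symm]; infer_instance
      apply (ConcreteCategory.bijective_of_isIso ((EtCoh.HF (pullback q i) 1).map γ)).1
      exact h1.symm.trans (map_zero _).symm
    obtain ⟨y, hy⟩ := exists_δH (hE.map_of_exact (EtCoh.pull i)) 0 ξ
      (map_pull_unit_eq_zero i q (pullback.fst q i) q₀ (IsPullback.of_hasPullback q i) F ξ hk)
    obtain ⟨x, rfl⟩ := (bijective_zero I f _).2 y
    exact ⟨δH hE 0 x, (Hpull_δH i hE 0 x).trans hy⟩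

end Groth.L27.ProperH1

namespace Groth.L27.ProperH1

theorem killedBy_of_nsmul_id {Y : Scheme.{u}} {n : ℕ} {F : EtCoh.Ab Y} (h : n • 𝟙 F = 0) :
    EtCoh.KilledBy n F := fun U s => by
  have := congrArg (fun φ : F ⟶ F => φ.hom.app (op U) s) h
  exact this

theorem killedBy_pull {Y W : Scheme.{u}} (g : W ⟶ Y) {n : ℕ} {F : EtCoh.Ab Y} (h : EtCoh.KilledBy n F) :
    EtCoh.KilledBy n ((EtCoh.pull g).obj F) := by
  haveI : (EtCoh.pull g).Additive := (EtCoh.pullPushAdj g).left_adjoint_additive
  refine killedBy_of_nsmul_id ?_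
  rw [← CategoryTheory.Functor.map_id, ← Functor.map_nsmul, FLC.nsmul_id_eq_zero h, Functor.map_zero]

theorem killedBy_const {Y : Scheme.{u}} (M : Type) [AddCommGroup M] :
    EtCoh.KilledBy (Nat.card M) (EtCoh.const Y M) := by
  intro U s
  refine Groth.L27.EtSite.ext_of_locally _ fun u => ?_
  obtain ⟨W, g, w, a, hw, e⟩ := Groth.L27.ConstSect.exists_locally_cst (AddCommGrpCat.of (ULift.{u + 1} M)) s u
  refine ⟨W, g, w, hw, ?_⟩
  rw [map_nsmul, e, ← map_nsmul, map_zero,
    show (Nat.card M) • a = 0 from ULift.ext _ _ (card_nsmul_eq_zero' (x := a.down)), map_zero]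

/-- `H¹` with finite constant coefficients is that of the special fibre. -/
theorem bijective_one_const {A : Type u} [CommRing A] (I : Ideal A) [HenselianRing A I]
    {X : Scheme.{u}} (f : X ⟶ Spec (CommRingCat.of A)) [IsProper f]
    [PreservesFiniteLimits (EtCoh.pull (pullback.fst f (HenselProper.ι I)))] (M : Type) [AddCommGroup M] [Finite M] :
    Function.Bijective (EtCore.Hpull (pullback.fst f (HenselProper.ι I)) (EtCoh.const X M) 1) :=
  haveI : NeZero (Nat.card M) := ⟨Nat.card_ne_zero.2 ⟨inferInstance, inferInstance⟩⟩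
  bijective_one I f _ (L28.ExtShriek.isFLC_const X M) (Nat.card M) (killedBy_const M)
    (killedBy_pull _ (killedBy_const M))

end Groth.L27.ProperH1
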